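import Groth.Prelude.Def_MoreMor
import Groth.Agent.Lib.BlowUp.IdealComap
import Groth.Agent.Lib.RegSeqLoc.Scheme

/-!
A morphism from a flat scheme is an isomorphism if it is so modulo a nilpotent ideal of the base.
-/

universe u

open CategoryTheory Limits AlgebraicGeometry

namespace GrothLib.DeformIso

/-- The algebraic statement. -/
theorem bijective_of_nilpotent {R B A : Type u} [CommRing R] [CommRing B] [CommRing A] [Algebra R B]
    [Algebra R A] [Module.Flat R A] (φ : B →ₐ[R] A) (J : Ideal R) (hJ : IsNilpotent J)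
    (hsurj : ∀ a, ∃ b, a - φ b ∈ J.map (algebraMap R A))
    (hinj : ∀ b, φ b ∈ J.map (algebraMap R A) → b ∈ J.map (algebraMap R B)) :
    Function.Bijective φ := by
  obtain ⟨N, hN⟩ := hJ
  have hs : Function.Surjective φ := by
    have hn : ∀ n, ∀ a, ∃ b, a - φ b ∈ (J ^ n) • (⊤ : Submodule R A) := by
      intro n
      induction n with
      | zero => exact fun a => ⟨0, by rw [pow_zero, Ideal.one_eq_top, Submodule.top_smul]; exact Submodule.mem_top⟩
      | succ n ih =>
        intro a
        obtain ⟨b, hb⟩ := ih a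
        have key : ∀ x ∈ (J ^ n) • (⊤ : Submodule R A), ∃ c, x - φ c ∈ (J ^ (n + 1)) • (⊤ : Submodule R A) := by
          intro x hx
          refine Submodule.smul_induction_on hx (fun r hr y _ => ?_) fun x y hx hy => ?_
          · obtain ⟨c, hc⟩ := hsurj y
            refine ⟨r • c, ?_⟩
            rw [map_smul, ← smul_sub, pow_succ, Submodule.mul_smul]
            refine Submodule.smul_mem_smul hr ?_
            rw [Ideal.smul_top_eq_map]
            exact hc
          · obtain ⟨c, hc⟩ := hx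
            obtain ⟨d, hd⟩ := hy
            refine ⟨c + d, ?_⟩
            rw [map_add, add_sub_add_comm]
            exact add_mem hc hd
        obtain ⟨c, hc⟩ := key _ hb
        refine ⟨b + c, ?_⟩
        rwa [map_add, ← sub_sub]
    intro a
    obtain ⟨b, hb⟩ := hn N a
    rw [hN, Ideal.zero_eq_bot, Submodule.bot_smul, Submodule.mem_bot, sub_eq_zero] at hb
    exact ⟨b, hb.symm⟩
  refine ⟨(injective_iff_map_eq_zero φ).2 fun b hb => ?_, hs⟩
  let K : Submodule R B := LinearMap.ker φ.toLinearMap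
  have hK : K ≤ J • K := by
    intro b hb
    have hb0 : φ b = 0 := hb
    have h1 : b ∈ J • (⊤ : Submodule R B) := by
      rw [Ideal.smul_top_eq_map]
      exact hinj b (by rw [hb0]; exact zero_mem _)
    obtain ⟨c, hc, hbeq⟩ := (Submodule.mem_ideal_smul_span_iff_exists_sum J (fun x : B => x) b).1
      (by rwa [Set.range_id', Submodule.span_univ])
    let ι := c.support
    have hrel : ∑ t : ι, (fun t : ι => c t.1) t • (fun t : ι => φ t.1) t = 0 := by
      rw [← hb0, ← hbeq, Finsupp.sum, map_sum, ← Finset.sum_coe_sort c.support]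
      simp [ι]
    obtain ⟨m, a, y, hy, ha⟩ := Module.Flat.isTrivialRelation_of_sum_smul_eq_zero
      (R := R) (M := A) (f := fun t : ι => c t.1) hrel
    choose z hz using fun s => hs (y s)
    have hb' : b = ∑ t : ι, c t.1 • (t.1 - ∑ s, a t s • z s) := by
      have h2 : ∑ t : ι, c t.1 • (∑ s, a t s • z s) = 0 := by
        simp only [Finset.smul_sum, smul_smul]
        rw [Finset.sum_comm]
        exact Finset.sum_eq_zero fun s _ => by rw [← Finset.sum_smul, ha s, zero_smul]
      simp only [smul_sub, Finset.sum_sub_distrib, h2, sub_zero]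
      rw [← hbeq, Finsupp.sum, ← Finset.sum_coe_sort c.support]
    rw [hb']
    refine Submodule.sum_mem _ fun t _ => Submodule.smul_mem_smul (hc _) ?_
    show φ (t.1 - ∑ s, a t s • z s) = 0
    rw [map_sub, map_sum, show φ t.1 = _ from hy t, sub_eq_zero]
    exact Finset.sum_congr rfl fun s _ => by rw [map_smul, hz]
  have hKn : ∀ n, K ≤ J ^ n • K := by
    intro n
    induction n with
    | zero => simp
    | succ n ih => rw [pow_succ, Submodule.mul_smul]; exact ih.trans (Submodule.smul_mono le_rfl hK)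
  have := hKn N (show b ∈ K from hb)
  rwa [hN, Ideal.zero_eq_bot, Submodule.bot_smul, Submodule.mem_bot] at this

/-- The kernel of the stalk map of a base change of a closed immersion. -/
theorem ker_stalkMap_of_isPullback {X X' S S' : Scheme.{u}} {i : X ⟶ X'} {iS : S ⟶ S'}
    {F : X' ⟶ S'} {f : X ⟶ S} [IsClosedImmersion iS] (hc : IsPullback i f F iS) (x : X)
    (U : S'.affineOpens) (hU : F (i x) ∈ U.1) :
    RingHom.ker (i.stalkMap x).hom =
      ((iS.ker.ideal U).map (S'.presheaf.germ U.1 (F (i x)) hU).hom).map (F.stalkMap (i x)).hom := by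
  have : IsClosedImmersion i := MorphismProperty.of_isPullback hc.flip ‹_›
  obtain ⟨_, ⟨V, hV, rfl⟩, hxV, hVU⟩ :=
    X'.isBasis_affineOpens.exists_subset_of_mem_open hU (F ⁻¹ᵁ U.1).2
  have hker : i.ker = iS.ker.comap F := by
    rw [← Scheme.IdealSheafData.ker_fst_of_isClosedImmersion, ← hc.isoPullback_hom_fst,
      Scheme.Hom.ker_comp_of_isIso]
  rw [GrothLib.RegSeqLoc.ker_stalkMap i x ⟨V, hV⟩ hxV, hker,
    GrothLib.BlowUp.ideal_comap_eq_map _ F U ⟨V, hV⟩ hVU, Ideal.map_map, Ideal.map_map]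
  congr 1
  rw [← CommRingCat.hom_comp, ← CommRingCat.hom_comp]
  congr 1
  rw [Scheme.Hom.germ_stalkMap, Scheme.Hom.appLE, Category.assoc, TopCat.Presheaf.germ_res]

/-- A morphism from a flat scheme is an isomorphism if it is so modulo a nilpotent ideal. -/
theorem isIso_of_isIso_baseChange {X X' Y Y' S S' : Scheme.{u}} (iX : X ⟶ X') (iY : Y ⟶ Y') (iS : S ⟶ S')
    (f : X ⟶ Y) (f' : X' ⟶ Y') (g : Y ⟶ S) (g' : Y' ⟶ S')
    (hS : MoreMor.IsFiniteOrderThickening iS) (hcX : IsPullback iX (f ≫ g) (f' ≫ g') iS)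
    (hcY : IsPullback iY g g' iS) (w : iX ≫ f' = f ≫ iY) [Flat (f' ≫ g')] [IsIso f] : IsIso f' := by
  obtain ⟨⟨_, _⟩, hnil⟩ := hS
  have : IsClosedImmersion iX := MorphismProperty.of_isPullback hcX.flip ‹_›
  have : Surjective iX := MorphismProperty.of_isPullback hcX.flip ‹_›
  have : IsClosedImmersion iY := MorphismProperty.of_isPullback hcY.flip ‹_›
  have : Surjective iY := MorphismProperty.of_isPullback hcY.flip ‹_›
  rw [isIso_iff_isIso_stalkMap]
  refine ⟨?_, fun x' => ?_⟩
  · let eX := (iX.isClosedEmbedding.isEmbedding).toHomeomorphOfSurjective iX.surjective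
    let eY := (iY.isClosedEmbedding.isEmbedding).toHomeomorphOfSurjective iY.surjective
    let eF := TopCat.homeoOfIso (asIso f.base)
    have he : f'.base = TopCat.ofHom ⟨(eX.symm.trans (eF.trans eY)), by fun_prop⟩ := by
      ext z
      obtain ⟨z, rfl⟩ := eX.surjective z
      show f' (iX z) = eY (eF (eX.symm (eX z)))
      rw [Homeomorph.symm_apply_apply, ← Scheme.Hom.comp_apply, w]
      rfl
    rw [he]
    exact (TopCat.isoOfHomeo (eX.symm.trans (eF.trans eY))).isIso_hom
  · obtain ⟨x, rfl⟩ := iX.surjective x'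
    have hcY' : IsPullback (iX ≫ f') (f ≫ g) g' iS := by
      rw [w]
      exact (IsPullback.of_horiz_isIso (show CommSq f (f ≫ g) g (𝟙 S) from ⟨by simp⟩)).paste_horiz hcY
    obtain ⟨_, ⟨U, hU, rfl⟩, hxU, -⟩ :=
      S'.isBasis_affineOpens.exists_subset_of_mem_open (Set.mem_univ (g' (f' (iX x)))) isOpen_univ
    have hA := ker_stalkMap_of_isPullback hcX x ⟨U, hU⟩ hxU
    have hB := ker_stalkMap_of_isPullback hcY' x ⟨U, hU⟩ hxU
    let R := S'.presheaf.stalk (g' (f' (iX x)))
    let J : Ideal R := (iS.ker.ideal ⟨U, hU⟩).map (S'.presheaf.germ U (g' (f' (iX x))) hxU).hom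
    have hJ : IsNilpotent J := by
      obtain ⟨n, hn⟩ := hnil
      refine ⟨n, ?_⟩
      rw [← Ideal.map_pow, ← Pi.pow_apply (iS.ker.ideal), ← Scheme.IdealSheafData.ideal_pow, hn]
      exact Ideal.map_bot
    letI : Algebra R (Y'.presheaf.stalk (f' (iX x))) := (g'.stalkMap (f' (iX x))).hom.toAlgebra
    letI : Algebra R (X'.presheaf.stalk (iX x)) := ((f' ≫ g').stalkMap (iX x)).hom.toAlgebra
    have : Module.Flat R (X'.presheaf.stalk (iX x)) := Flat.stalkMap (f' ≫ g') (iX x)
    let φ : Y'.presheaf.stalk (f' (iX x)) →ₐ[R] X'.presheaf.stalk (iX x) :=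
      { (f'.stalkMap (iX x)).hom with
        commutes' := fun r => by
          show f'.stalkMap (iX x) (g'.stalkMap _ r) = (f' ≫ g').stalkMap (iX x) r
          rw [Scheme.Hom.stalkMap_comp]
          rfl }
    have hcomp : ((iX ≫ f').stalkMap x).hom = (iX.stalkMap x).hom.comp (f'.stalkMap (iX x)).hom := by
      rw [Scheme.Hom.stalkMap_comp]; rfl
    have hbij := bijective_of_nilpotent φ J hJ (fun a => ?_) (fun b hb => ?_)
    · exact (ConcreteCategory.isIso_iff_bijective _).2 hbij
    · have : IsClosedImmersion (iX ≫ f') := by rw [w]; infer_instance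
      obtain ⟨b, hb⟩ := (iX ≫ f').stalkMap_surjective x (iX.stalkMap x a)
      refine ⟨b, ?_⟩
      show _ ∈ ((iS.ker.ideal ⟨U, hU⟩).map _).map ((f' ≫ g').stalkMap (iX x)).hom
      refine hA.le ?_
      rw [RingHom.mem_ker, map_sub, sub_eq_zero]
      rw [← show ((iX ≫ f').stalkMap x).hom b = (iX.stalkMap x).hom (φ b) from RingHom.congr_fun hcomp b]
      exact hb.symm
    · show b ∈ ((iS.ker.ideal ⟨U, hU⟩).map _).map (g'.stalkMap (f' (iX x))).hom
      refine hB.le ?_
      rw [RingHom.mem_ker, hcomp]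
      exact hA.ge hb

end GrothLib.DeformIso
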